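import Mathlib
import Cfsg.Agent.Lib.Helper6.ChevUnip
import Cfsg.Prelude.Def_ChevE7

/-!
# Structure of U: checks for E7 (helper6)

Generated tables and kernel checks.
-/

set_option autoImplicit false

namespace Cfsg.Agent.Lib.Helper6.ChevUnipData

open Cfsg.Lie Cfsg.Agent.Lib.Helper6.ChevUnip

/-- Bezout certificates for the coroot coefficients, type E7 -/
def bezE7 : List (List ℤ) :=
  [[0, 0, 0, 0, 0, 0, -1], [0, 0, 0, 0, 0, 0, -1], [0, 0, 0, 0, 0, 0, -1], [0, 0, 0, 0, 0, 0, -1], [0, 0, 0, 0, 0, 0, -1], [0, 0, 0, 0, 0, 0, -1], [0, 0, 0, 0, 0, -1, 0], [0, 0, 0, 0, 0, 0, -1], [0, 0, 0, 0, 0, 0, -1], [0, 0, 0, 0, 0, 0, -1], [0, 0, 0, 0, 0, -1, 0], [0, 0, 0, 0, 0, 0, -1], [0, 0, 0, 0, 0, 0, -1], [0, 0, 0, 0, 0, -1, 0], [0, 0, 0, 0, 0, 0, -1], [0, 0, 0, 0, 0, -1, 0], [0, 0, 0, 0, -1, 0, 0], [0, 0, 0, 0, 0, 0, -1], [0, 0, 0, 0, 0, 0, -1], [0, 0, 0, 0,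 0, -1, 0], [0, 0, 0, 0, 0, 0, -1], [0, 0, 0, 0, 0, -1, 0], [0, 0, 0, 0, -1, 0, 0], [0, 0, 0, 0, 0, 0, -1], [0, 0, 0, 0, 0, -1, 0], [0, 0, 0, 0, -1, 0, 0], [0, 0, 0, -1, 0, 0, 0], [0, 0, 0, 0, 0, 0, -1], [0, 0, 0, 0, 0, -1, 0], [0, 0, 0, 0, -1, 0, 0], [0, 0, 0, -1, 0, 0, 0], [0, 0, -1, 0, 0, 0, 0], [-1, 0, 0, 0, 0, 0, 0], [0, 0, 0, 0, 0, 0, -1], [0, 0, 0, 0, 0, 0, -1], [0, 0, 0, 0, 0, -1, 0], [0, 0, 0, 0, 0, 0, -1], [0, 0, 0, 0, 0, -1, 0], [0, 0, 0, 0, -1, 0, 0], [0, 0, 0, 0, 0, 0, -1], [0, 0, 0, 0, 0, -1, 0], [0, 0, 0, 0, -1, 0, 0], [0, 0, 0, -1, 0, 0, 0], [0, 0, 0, 0, 0, 0, -1], [0, 0, 0, 0, 0, -1, 0], [0, 0, 0, 0, -1, 0, 0], [0, 0, 0, -1, 0, 0, 0], [0, -1, 0, 0, 0, 0, 0], [0, 0, 0, 0, 0, 0, -1], [0, 0, 0, 0, 0, -1, 0], [0, 0, 0, 0, -1, 0, 0], [0, 0, 0, -1, 0, 0, 0], [0, 0, -1, 0, 0, 0, 0], [0, 0, 0, 0, 0, 0, -1], [0, 0, 0, 0, 0, -1, 0], [0, 0, 0,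 0, -1, 0, 0], [0, 0, 0, -1, 0, 0, 0], [0, 0, 0, 0, 0, 0, -1], [0, 0, 0, 0, 0, -1, 0], [0, 0, 0, 0, -1, 0, 0], [0, 0, 0, 0, 0, 0, -1], [0, 0, 0, 0, 0, -1, 0], [0, 0, 0, 0, 0, 0, -1], [0, 0, 0, 0, 0, 0, 1], [0, 0, 0, 0, 0, 1, 0], [0, 0, 0, 0, 0, 0, 1], [0, 0, 0, 0, 1, 0, 0], [0, 0, 0, 0, 0, 1, 0], [0, 0, 0, 0, 0, 0, 1], [0, 0, 0, 1, 0, 0, 0], [0, 0, 0, 0, 1, 0, 0], [0, 0, 0, 0, 0, 1, 0], [0, 0, 0, 0, 0, 0, 1], [0, 0, 1, 0, 0, 0, 0], [0, 0, 0, 1, 0, 0, 0], [0, 0, 0, 0, 1, 0, 0], [0, 0, 0, 0, 0, 1, 0], [0, 0, 0, 0, 0, 0, 1], [0, 1, 0, 0, 0, 0, 0], [0, 0, 0, 1, 0, 0, 0], [0, 0, 0, 0, 1, 0, 0], [0, 0, 0, 0, 0, 1, 0], [0, 0, 0, 0, 0, 0, 1], [0, 0, 0, 1, 0, 0, 0], [0, 0, 0, 0, 1, 0, 0], [0, 0, 0, 0, 0, 1, 0], [0, 0, 0, 0, 0, 0, 1], [0, 0, 0, 0, 1, 0, 0], [0, 0, 0, 0, 0, 1, 0], [0, 0, 0, 0, 0, 0, 1], [0, 0, 0, 0, 0, 1, 0], [0, 0, 0, 0, 0, 0, 1], [0, 0, 0, 0,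 0, 0, 1], [1, 0, 0, 0, 0, 0, 0], [0, 0, 1, 0, 0, 0, 0], [0, 0, 0, 1, 0, 0, 0], [0, 0, 0, 0, 1, 0, 0], [0, 0, 0, 0, 0, 1, 0], [0, 0, 0, 0, 0, 0, 1], [0, 0, 0, 1, 0, 0, 0], [0, 0, 0, 0, 1, 0, 0], [0, 0, 0, 0, 0, 1, 0], [0, 0, 0, 0, 0, 0, 1], [0, 0, 0, 0, 1, 0, 0], [0, 0, 0, 0, 0, 1, 0], [0, 0, 0, 0, 0, 0, 1], [0, 0, 0, 0, 0, 1, 0], [0, 0, 0, 0, 0, 0, 1], [0, 0, 0, 0, 0, 0, 1], [0, 0, 0, 0, 1, 0, 0], [0, 0, 0, 0, 0, 1, 0], [0, 0, 0, 0, 0, 0, 1], [0, 0, 0, 0, 0, 1, 0], [0, 0, 0, 0, 0, 0, 1], [0, 0, 0, 0, 0, 0, 1], [0, 0, 0, 0, 0, 1, 0], [0, 0, 0, 0, 0, 0, 1], [0, 0, 0, 0, 0, 0, 1], [0, 0, 0, 0, 0, 0, 1], [0, 0, 0, 0, 0, 1, 0], [0, 0, 0, 0, 0, 0, 1], [0, 0, 0, 0, 0, 0, 1], [0, 0, 0, 0, 0, 0, 1], [0, 0, 0, 0, 0, 0, 1], [0, 0, 0, 0, 0, 0, 1], [0, 0, 0, 0, 0, 0, 1]]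

set_option maxHeartbeats 0 in
set_option maxRecDepth 100000 in
theorem negE7 : negTab chevE7 := by
  decide +kernel

set_option maxHeartbeats 0 in
set_option maxRecDepth 100000 in
theorem bezOKE7 : ∀ r ∈ List.range 126, bezTab chevE7 bezE7 r := by
  decide +kernel

set_option maxHeartbeats 0 in
set_option maxRecDepth 100000 in
theorem lenE7 : chevE7.posRoots.length = 126 / 2 := by
  decide +kernel

set_option maxHeartbeats 0 in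
set_option maxRecDepth 100000 in
theorem posE7_neg : posTabL chevE7 (List.range' 0 63) := by
  decide +kernel

set_option maxHeartbeats 0 in
set_option maxRecDepth 100000 in
theorem posE7_0 : posTabL chevE7 (List.range' 63 9) := by
  decide +kernel

set_option maxHeartbeats 0 in
set_option maxRecDepth 100000 in
theorem posE7_1 : posTabL chevE7 (List.range' 72 9) := by
  decide +kernel

set_option maxHeartbeats 0 in
set_option maxRecDepth 100000 in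
theorem posE7_2 : posTabL chevE7 (List.range' 81 9) := by
  decide +kernel

set_option maxHeartbeats 0 in
set_option maxRecDepth 100000 in
theorem posE7_3 : posTabL chevE7 (List.range' 90 9) := by
  decide +kernel

set_option maxHeartbeats 0 in
set_option maxRecDepth 100000 in
theorem posE7_4 : posTabL chevE7 (List.range' 99 9) := by
  decide +kernel

set_option maxHeartbeats 0 in
set_option maxRecDepth 100000 in
theorem posE7_5 : posTabL chevE7 (List.range' 108 9) := by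
  decide +kernel

set_option maxHeartbeats 0 in
set_option maxRecDepth 100000 in
theorem posE7_6 : posTabL chevE7 (List.range' 117 9) := by
  decide +kernel

theorem posE7 (r : ℕ) (h2 : r < 126) : posTab chevE7 r := by
  by_cases h63 : r < 63
  · exact posE7_neg r (List.mem_range'_1.mpr ⟨by omega, by omega⟩)
  by_cases h72 : r < 72
  · exact posE7_0 r (List.mem_range'_1.mpr ⟨by omega, by omega⟩)
  by_cases h81 : r < 81
  · exact posE7_1 r (List.mem_range'_1.mpr ⟨by omega, by omega⟩)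
  by_cases h90 : r < 90
  · exact posE7_2 r (List.mem_range'_1.mpr ⟨by omega, by omega⟩)
  by_cases h99 : r < 99
  · exact posE7_3 r (List.mem_range'_1.mpr ⟨by omega, by omega⟩)
  by_cases h108 : r < 108
  · exact posE7_4 r (List.mem_range'_1.mpr ⟨by omega, by omega⟩)
  by_cases h117 : r < 117
  · exact posE7_5 r (List.mem_range'_1.mpr ⟨by omega, by omega⟩)
  exact posE7_6 r (List.mem_range'_1.mpr ⟨by omega, by omega⟩)

set_option maxHeartbeats 0 in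
set_option maxRecDepth 100000 in
theorem triE7_neg : triTabL chevE7 (List.range' 0 63) := by
  decide +kernel

set_option maxHeartbeats 0 in
set_option maxRecDepth 100000 in
theorem triE7_0 : triTabL chevE7 (List.range' 63 16) := by
  decide +kernel

set_option maxHeartbeats 0 in
set_option maxRecDepth 100000 in
theorem triE7_1 : triTabL chevE7 (List.range' 79 16) := by
  decide +kernel

set_option maxHeartbeats 0 in
set_option maxRecDepth 100000 in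
theorem triE7_2 : triTabL chevE7 (List.range' 95 16) := by
  decide +kernel

set_option maxHeartbeats 0 in
set_option maxRecDepth 100000 in
theorem triE7_3 : triTabL chevE7 (List.range' 111 15) := by
  decide +kernel

theorem triE7 (r : ℕ) (h2 : r < 126) : triTab chevE7 r := by
  by_cases h63 : r < 63
  · exact triE7_neg r (List.mem_range'_1.mpr ⟨by omega, by omega⟩)
  by_cases h79 : r < 79
  · exact triE7_0 r (List.mem_range'_1.mpr ⟨by omega, by omega⟩)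
  by_cases h95 : r < 95
  · exact triE7_1 r (List.mem_range'_1.mpr ⟨by omega, by omega⟩)
  by_cases h111 : r < 111
  · exact triE7_2 r (List.mem_range'_1.mpr ⟨by omega, by omega⟩)
  exact triE7_3 r (List.mem_range'_1.mpr ⟨by omega, by omega⟩)

theorem utabsE7 : UTabs chevE7 bezE7 where
  pos := fun r hr => posE7 r hr
  tri := fun s hs => triE7 s hs
  neg := negE7
  bez := fun r hr => bezOKE7 r (List.mem_range.mpr hr)


end Cfsg.Agent.Lib.Helper6.ChevUnipData
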