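import Mathlib
import Cfsg.Agent.Lib.Helper6.ChevUnip
import Cfsg.Prelude.Def_ChevE8

/-!
# Structure of U: checks for E8, part B (helper6)

Generated tables and kernel checks.
-/

set_option autoImplicit false

namespace Cfsg.Agent.Lib.Helper6.ChevUnipData

open Cfsg.Lie Cfsg.Agent.Lib.Helper6.ChevUnip

set_option maxHeartbeats 0 in
set_option maxRecDepth 100000 in
theorem posE8lo_neg : posTabL chevE8 (List.range' 0 120) := by
  decide +kernel

set_option maxHeartbeats 0 in
set_option maxRecDepth 100000 in
theorem posE8lo_0 : posTabL chevE8 (List.range' 120 6) := by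
  decide +kernel

set_option maxHeartbeats 0 in
set_option maxRecDepth 100000 in
theorem posE8lo_1 : posTabL chevE8 (List.range' 126 6) := by
  decide +kernel

set_option maxHeartbeats 0 in
set_option maxRecDepth 100000 in
theorem posE8lo_2 : posTabL chevE8 (List.range' 132 6) := by
  decide +kernel

set_option maxHeartbeats 0 in
set_option maxRecDepth 100000 in
theorem posE8lo_3 : posTabL chevE8 (List.range' 138 6) := by
  decide +kernel

set_option maxHeartbeats 0 in
set_option maxRecDepth 100000 in
theorem posE8lo_4 : posTabL chevE8 (List.range' 144 6) := by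
  decide +kernel

set_option maxHeartbeats 0 in
set_option maxRecDepth 100000 in
theorem posE8lo_5 : posTabL chevE8 (List.range' 150 6) := by
  decide +kernel

set_option maxHeartbeats 0 in
set_option maxRecDepth 100000 in
theorem posE8lo_6 : posTabL chevE8 (List.range' 156 6) := by
  decide +kernel

set_option maxHeartbeats 0 in
set_option maxRecDepth 100000 in
theorem posE8lo_7 : posTabL chevE8 (List.range' 162 6) := by
  decide +kernel

set_option maxHeartbeats 0 in
set_option maxRecDepth 100000 in
theorem posE8lo_8 : posTabL chevE8 (List.range' 168 6) := by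
  decide +kernel

set_option maxHeartbeats 0 in
set_option maxRecDepth 100000 in
theorem posE8lo_9 : posTabL chevE8 (List.range' 174 6) := by
  decide +kernel

theorem posE8lo (r : ℕ) (h2 : r < 180) : posTab chevE8 r := by
  by_cases h120 : r < 120
  · exact posE8lo_neg r (List.mem_range'_1.mpr ⟨by omega, by omega⟩)
  by_cases h126 : r < 126
  · exact posE8lo_0 r (List.mem_range'_1.mpr ⟨by omega, by omega⟩)
  by_cases h132 : r < 132
  · exact posE8lo_1 r (List.mem_range'_1.mpr ⟨by omega, by omega⟩)
  by_cases h138 : r < 138
  · exact posE8lo_2 r (List.mem_range'_1.mpr ⟨by omega, by omega⟩)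
  by_cases h144 : r < 144
  · exact posE8lo_3 r (List.mem_range'_1.mpr ⟨by omega, by omega⟩)
  by_cases h150 : r < 150
  · exact posE8lo_4 r (List.mem_range'_1.mpr ⟨by omega, by omega⟩)
  by_cases h156 : r < 156
  · exact posE8lo_5 r (List.mem_range'_1.mpr ⟨by omega, by omega⟩)
  by_cases h162 : r < 162
  · exact posE8lo_6 r (List.mem_range'_1.mpr ⟨by omega, by omega⟩)
  by_cases h168 : r < 168
  · exact posE8lo_7 r (List.mem_range'_1.mpr ⟨by omega, by omega⟩)
  by_cases h174 : r < 174
  · exact posE8lo_8 r (List.mem_range'_1.mpr ⟨by omega, by omega⟩)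
  exact posE8lo_9 r (List.mem_range'_1.mpr ⟨by omega, by omega⟩)


end Cfsg.Agent.Lib.Helper6.ChevUnipData
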