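import Mathlib
import Cfsg.Agent.Lib.Helper6.ChevUnip
import Cfsg.Prelude.Def_ChevE8

/-!
# Structure of U: checks for E8, part C (helper6)

Generated tables and kernel checks.
-/

set_option autoImplicit false

namespace Cfsg.Agent.Lib.Helper6.ChevUnipData

open Cfsg.Lie Cfsg.Agent.Lib.Helper6.ChevUnip

set_option maxHeartbeats 0 in
set_option maxRecDepth 100000 in
theorem posE8hi_0 : posTabL chevE8 (List.range' 180 6) := by
  decide +kernel

set_option maxHeartbeats 0 in
set_option maxRecDepth 100000 in
theorem posE8hi_1 : posTabL chevE8 (List.range' 186 6) := by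
  decide +kernel

set_option maxHeartbeats 0 in
set_option maxRecDepth 100000 in
theorem posE8hi_2 : posTabL chevE8 (List.range' 192 6) := by
  decide +kernel

set_option maxHeartbeats 0 in
set_option maxRecDepth 100000 in
theorem posE8hi_3 : posTabL chevE8 (List.range' 198 6) := by
  decide +kernel

set_option maxHeartbeats 0 in
set_option maxRecDepth 100000 in
theorem posE8hi_4 : posTabL chevE8 (List.range' 204 6) := by
  decide +kernel

set_option maxHeartbeats 0 in
set_option maxRecDepth 100000 in
theorem posE8hi_5 : posTabL chevE8 (List.range' 210 6) := by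
  decide +kernel

set_option maxHeartbeats 0 in
set_option maxRecDepth 100000 in
theorem posE8hi_6 : posTabL chevE8 (List.range' 216 6) := by
  decide +kernel

set_option maxHeartbeats 0 in
set_option maxRecDepth 100000 in
theorem posE8hi_7 : posTabL chevE8 (List.range' 222 6) := by
  decide +kernel

set_option maxHeartbeats 0 in
set_option maxRecDepth 100000 in
theorem posE8hi_8 : posTabL chevE8 (List.range' 228 6) := by
  decide +kernel

set_option maxHeartbeats 0 in
set_option maxRecDepth 100000 in
theorem posE8hi_9 : posTabL chevE8 (List.range' 234 6) := by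
  decide +kernel

theorem posE8hi (r : ℕ) (h1 : 180 ≤ r) (h2 : r < 240) : posTab chevE8 r := by
  by_cases h186 : r < 186
  · exact posE8hi_0 r (List.mem_range'_1.mpr ⟨by omega, by omega⟩)
  by_cases h192 : r < 192
  · exact posE8hi_1 r (List.mem_range'_1.mpr ⟨by omega, by omega⟩)
  by_cases h198 : r < 198
  · exact posE8hi_2 r (List.mem_range'_1.mpr ⟨by omega, by omega⟩)
  by_cases h204 : r < 204
  · exact posE8hi_3 r (List.mem_range'_1.mpr ⟨by omega, by omega⟩)
  by_cases h210 : r < 210
  · exact posE8hi_4 r (List.mem_range'_1.mpr ⟨by omega, by omega⟩)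
  by_cases h216 : r < 216
  · exact posE8hi_5 r (List.mem_range'_1.mpr ⟨by omega, by omega⟩)
  by_cases h222 : r < 222
  · exact posE8hi_6 r (List.mem_range'_1.mpr ⟨by omega, by omega⟩)
  by_cases h228 : r < 228
  · exact posE8hi_7 r (List.mem_range'_1.mpr ⟨by omega, by omega⟩)
  by_cases h234 : r < 234
  · exact posE8hi_8 r (List.mem_range'_1.mpr ⟨by omega, by omega⟩)
  exact posE8hi_9 r (List.mem_range'_1.mpr ⟨by omega, by omega⟩)


end Cfsg.Agent.Lib.Helper6.ChevUnipData
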