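import Mathlib
import Cfsg.Agent.Lib.Helper6.ChevUnip
import Cfsg.Agent.Lib.Helper6.ChevUnipData.E8A
import Cfsg.Agent.Lib.Helper6.ChevUnipData.E8B
import Cfsg.Agent.Lib.Helper6.ChevUnipData.E8C

/-!
# Structure of U: checks for E8, assembly (helper6)

Generated tables and kernel checks.
-/

set_option autoImplicit false

namespace Cfsg.Agent.Lib.Helper6.ChevUnipData

open Cfsg.Lie Cfsg.Agent.Lib.Helper6.ChevUnip

theorem posE8 (r : ℕ) (h2 : r < 240) : posTab chevE8 r := by
  by_cases h : r < 180
  · exact posE8lo r h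
  · exact posE8hi r (by omega) h2

theorem utabsE8 : UTabs chevE8 bezE8 where
  pos := fun r hr => posE8 r hr
  tri := fun s hs => triE8 s hs
  neg := negE8
  bez := fun r hr => bezOKE8 r (List.mem_range.mpr hr)


end Cfsg.Agent.Lib.Helper6.ChevUnipData
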