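import Mathlib
import Cfsg.Agent.Lib.Helper6.ChevUnip
import Cfsg.Prelude.Def_ChevG2
import Cfsg.Prelude.Def_ChevB2
import Cfsg.Prelude.Def_ChevD4
import Cfsg.Prelude.Def_ChevF4
import Cfsg.Prelude.Def_ChevE6

/-!
# Structure of U: checks for the small types and E6 (helper6)

Generated tables and kernel checks.
-/

set_option autoImplicit false

namespace Cfsg.Agent.Lib.Helper6.ChevUnipData

open Cfsg.Lie Cfsg.Agent.Lib.Helper6.ChevUnip

/-- Bezout certificates for the coroot coefficients, type G2 -/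
def bezG2 : List (List ℤ) :=
  [[1, -1], [0, -1], [1, -1], [-1, 0], [-1, 0], [0, -1], [0, 1], [1, 0], [1, 0], [-1, 1], [0, 1], [1, 0]]

set_option maxHeartbeats 0 in
set_option maxRecDepth 100000 in
theorem negG2 : negTab chevG2 := by
  decide +kernel

set_option maxHeartbeats 0 in
set_option maxRecDepth 100000 in
theorem bezOKG2 : ∀ r ∈ List.range 12, bezTab chevG2 bezG2 r := by
  decide +kernel

set_option maxHeartbeats 0 in
set_option maxRecDepth 100000 in
theorem lenG2 : chevG2.posRoots.length = 12 / 2 := by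
  decide +kernel

set_option maxHeartbeats 0 in
set_option maxRecDepth 100000 in
theorem posG2_neg : posTabL chevG2 (List.range' 0 6) := by
  decide +kernel

set_option maxHeartbeats 0 in
set_option maxRecDepth 100000 in
theorem posG2_0 : posTabL chevG2 (List.range' 6 6) := by
  decide +kernel

theorem posG2 (r : ℕ) (h2 : r < 12) : posTab chevG2 r := by
  by_cases h6 : r < 6
  · exact posG2_neg r (List.mem_range'_1.mpr ⟨by omega, by omega⟩)
  exact posG2_0 r (List.mem_range'_1.mpr ⟨by omega, by omega⟩)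

set_option maxHeartbeats 0 in
set_option maxRecDepth 100000 in
theorem triG2_neg : triTabL chevG2 (List.range' 0 6) := by
  decide +kernel

set_option maxHeartbeats 0 in
set_option maxRecDepth 100000 in
theorem triG2_0 : triTabL chevG2 (List.range' 6 6) := by
  decide +kernel

theorem triG2 (r : ℕ) (h2 : r < 12) : triTab chevG2 r := by
  by_cases h6 : r < 6
  · exact triG2_neg r (List.mem_range'_1.mpr ⟨by omega, by omega⟩)
  exact triG2_0 r (List.mem_range'_1.mpr ⟨by omega, by omega⟩)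

theorem utabsG2 : UTabs chevG2 bezG2 where
  pos := fun r hr => posG2 r hr
  tri := fun s hs => triG2 s hs
  neg := negG2
  bez := fun r hr => bezOKG2 r (List.mem_range.mpr hr)

/-- Bezout certificates for the coroot coefficients, type B2 -/
def bezB2 : List (List ℤ) :=
  [[0, -1], [1, -1], [-1, 0], [0, -1], [0, 1], [1, 0], [1, 0], [0, 1]]

set_option maxHeartbeats 0 in
set_option maxRecDepth 100000 in
theorem negB2 : negTab chevB2 := by
  decide +kernel

set_option maxHeartbeats 0 in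
set_option maxRecDepth 100000 in
theorem bezOKB2 : ∀ r ∈ List.range 8, bezTab chevB2 bezB2 r := by
  decide +kernel

set_option maxHeartbeats 0 in
set_option maxRecDepth 100000 in
theorem lenB2 : chevB2.posRoots.length = 8 / 2 := by
  decide +kernel

set_option maxHeartbeats 0 in
set_option maxRecDepth 100000 in
theorem posB2_neg : posTabL chevB2 (List.range' 0 4) := by
  decide +kernel

set_option maxHeartbeats 0 in
set_option maxRecDepth 100000 in
theorem posB2_0 : posTabL chevB2 (List.range' 4 4) := by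
  decide +kernel

theorem posB2 (r : ℕ) (h2 : r < 8) : posTab chevB2 r := by
  by_cases h4 : r < 4
  · exact posB2_neg r (List.mem_range'_1.mpr ⟨by omega, by omega⟩)
  exact posB2_0 r (List.mem_range'_1.mpr ⟨by omega, by omega⟩)

set_option maxHeartbeats 0 in
set_option maxRecDepth 100000 in
theorem triB2_neg : triTabL chevB2 (List.range' 0 4) := by
  decide +kernel

set_option maxHeartbeats 0 in
set_option maxRecDepth 100000 in
theorem triB2_0 : triTabL chevB2 (List.range' 4 4) := by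
  decide +kernel

theorem triB2 (r : ℕ) (h2 : r < 8) : triTab chevB2 r := by
  by_cases h4 : r < 4
  · exact triB2_neg r (List.mem_range'_1.mpr ⟨by omega, by omega⟩)
  exact triB2_0 r (List.mem_range'_1.mpr ⟨by omega, by omega⟩)

theorem utabsB2 : UTabs chevB2 bezB2 where
  pos := fun r hr => posB2 r hr
  tri := fun s hs => triB2 s hs
  neg := negB2
  bez := fun r hr => bezOKB2 r (List.mem_range.mpr hr)

/-- Bezout certificates for the coroot coefficients, type D4 -/
def bezD4 : List (List ℤ) :=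
  [[0, 0, 0, -1], [0, 0, 0, -1], [0, 0, -1, 0], [0, 0, 0, -1], [0, -1, 0, 0], [-1, 0, 0, 0], [0, 0, 0, -1], [0, 0, -1, 0], [0, 0, 0, -1], [0, -1, 0, 0], [0, 0, -1, 0], [0, 0, 0, -1], [0, 0, 0, 1], [0, 0, 1, 0], [0, 1, 0, 0], [0, 0, 0, 1], [0, 0, 1, 0], [0, 0, 0, 1], [1, 0, 0, 0], [0, 1, 0, 0], [0, 0, 0, 1], [0, 0, 1, 0], [0, 0, 0, 1], [0, 0, 0, 1]]

set_option maxHeartbeats 0 in
set_option maxRecDepth 100000 in
theorem negD4 : negTab chevD4 := by
  decide +kernel

set_option maxHeartbeats 0 in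
set_option maxRecDepth 100000 in
theorem bezOKD4 : ∀ r ∈ List.range 24, bezTab chevD4 bezD4 r := by
  decide +kernel

set_option maxHeartbeats 0 in
set_option maxRecDepth 100000 in
theorem lenD4 : chevD4.posRoots.length = 24 / 2 := by
  decide +kernel

set_option maxHeartbeats 0 in
set_option maxRecDepth 100000 in
theorem posD4_neg : posTabL chevD4 (List.range' 0 12) := by
  decide +kernel

set_option maxHeartbeats 0 in
set_option maxRecDepth 100000 in
theorem posD4_0 : posTabL chevD4 (List.range' 12 12) := by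
  decide +kernel

theorem posD4 (r : ℕ) (h2 : r < 24) : posTab chevD4 r := by
  by_cases h12 : r < 12
  · exact posD4_neg r (List.mem_range'_1.mpr ⟨by omega, by omega⟩)
  exact posD4_0 r (List.mem_range'_1.mpr ⟨by omega, by omega⟩)

set_option maxHeartbeats 0 in
set_option maxRecDepth 100000 in
theorem triD4_neg : triTabL chevD4 (List.range' 0 12) := by
  decide +kernel

set_option maxHeartbeats 0 in
set_option maxRecDepth 100000 in
theorem triD4_0 : triTabL chevD4 (List.range' 12 12) := by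
  decide +kernel

theorem triD4 (r : ℕ) (h2 : r < 24) : triTab chevD4 r := by
  by_cases h12 : r < 12
  · exact triD4_neg r (List.mem_range'_1.mpr ⟨by omega, by omega⟩)
  exact triD4_0 r (List.mem_range'_1.mpr ⟨by omega, by omega⟩)

theorem utabsD4 : UTabs chevD4 bezD4 where
  pos := fun r hr => posD4 r hr
  tri := fun s hs => triD4 s hs
  neg := negD4
  bez := fun r hr => bezOKD4 r (List.mem_range.mpr hr)

/-- Bezout certificates for the coroot coefficients, type F4 -/
def bezF4 : List (List ℤ) :=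
  [[-1, 1, 0, -1], [0, 0, 0, -1], [0, 0, 0, -1], [-1, 1, 0, -1], [0, 0, 0, -1], [0, 0, 0, -1], [0, 0, -1, 0], [1, 0, 0, -1], [-1, 1, 0, -1], [1, -1, 1, -1], [-1, 1, -1, 0], [0, -1, 1, -1], [0, 1, -1, 0], [0, -1, 0, 0], [-1, 0, 0, 0], [0, 0, 0, -1], [0, 0, 0, -1], [0, 0, -1, 0], [0, -1, 1, -1], [0, 1, -1, 0], [0, -1, 0, 0], [0, 0, 0, -1], [0, 0, -1, 0], [0, 0, 0, -1], [0, 0, 0, 1], [0, 0, 1, 0], [0, 0, 0, 1], [0, 1, 0, 0], [0, 1, 0, 0], [0, 1, 0, 0], [0, 0, 1, 0], [0, 0, 0, 1], [0, 0, 0, 1], [1, 0, 0, 0], [0, 1, 0, 0], [0, 1, 0, 0], [0, 1, 0, 0], [1, 0, 0, 0], [1, 0, 0, 0], [1, 0, 0, 0], [1, 0, 0, 0], [0, 0, 1, 0], [0, 0, 0, 1], [0, 0, 0, 1], [-1, 1, 0, 0], [0, 0, 0, 1], [0, 0, 0, 1], [1, 0, 0, 0]]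

set_option maxHeartbeats 0 in
set_option maxRecDepth 100000 in
theorem negF4 : negTab chevF4 := by
  decide +kernel

set_option maxHeartbeats 0 in
set_option maxRecDepth 100000 in
theorem bezOKF4 : ∀ r ∈ List.range 48, bezTab chevF4 bezF4 r := by
  decide +kernel

set_option maxHeartbeats 0 in
set_option maxRecDepth 100000 in
theorem lenF4 : chevF4.posRoots.length = 48 / 2 := by
  decide +kernel

set_option maxHeartbeats 0 in
set_option maxRecDepth 100000 in
theorem posF4_neg : posTabL chevF4 (List.range' 0 24) := by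
  decide +kernel

set_option maxHeartbeats 0 in
set_option maxRecDepth 100000 in
theorem posF4_0 : posTabL chevF4 (List.range' 24 12) := by
  decide +kernel

set_option maxHeartbeats 0 in
set_option maxRecDepth 100000 in
theorem posF4_1 : posTabL chevF4 (List.range' 36 12) := by
  decide +kernel

theorem posF4 (r : ℕ) (h2 : r < 48) : posTab chevF4 r := by
  by_cases h24 : r < 24
  · exact posF4_neg r (List.mem_range'_1.mpr ⟨by omega, by omega⟩)
  by_cases h36 : r < 36
  · exact posF4_0 r (List.mem_range'_1.mpr ⟨by omega, by omega⟩)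
  exact posF4_1 r (List.mem_range'_1.mpr ⟨by omega, by omega⟩)

set_option maxHeartbeats 0 in
set_option maxRecDepth 100000 in
theorem triF4_neg : triTabL chevF4 (List.range' 0 24) := by
  decide +kernel

set_option maxHeartbeats 0 in
set_option maxRecDepth 100000 in
theorem triF4_0 : triTabL chevF4 (List.range' 24 24) := by
  decide +kernel

theorem triF4 (r : ℕ) (h2 : r < 48) : triTab chevF4 r := by
  by_cases h24 : r < 24
  · exact triF4_neg r (List.mem_range'_1.mpr ⟨by omega, by omega⟩)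
  exact triF4_0 r (List.mem_range'_1.mpr ⟨by omega, by omega⟩)

theorem utabsF4 : UTabs chevF4 bezF4 where
  pos := fun r hr => posF4 r hr
  tri := fun s hs => triF4 s hs
  neg := negF4
  bez := fun r hr => bezOKF4 r (List.mem_range.mpr hr)

/-- Bezout certificates for the coroot coefficients, type E6 -/
def bezE6 : List (List ℤ) :=
  [[0, 0, 0, 0, 0, -1], [0, 0, 0, 0, 0, -1], [0, 0, 0, 0, 0, -1], [0, 0, 0, 0, 0, -1], [0, 0, 0, 0, -1, 0], [0, 0, 0, 0, 0, -1], [0, 0, 0, 0, 0, -1], [0, 0, 0, 0, -1, 0], [0, 0, 0, 0, 0, -1], [0, 0, 0, 0, -1, 0], [0, 0, 0, -1, 0, 0], [0, 0, 0, 0, 0, -1], [0, 0, 0, 0, -1, 0], [0, 0, 0, -1, 0, 0], [0, 0, -1, 0, 0, 0], [-1, 0, 0, 0, 0, 0], [0, 0, 0, 0, 0, -1], [0, 0, 0, 0, 0, -1], [0, 0, 0, 0, -1, 0], [0, 0, 0, 0, 0, -1], [0, 0, 0, 0, -1, 0], [0, 0, 0, -1, 0, 0], [0, 0, 0, 0, 0, -1], [0, 0, 0, 0, -1, 0], [0, 0, 0, -1, 0, 0], [0, -1, 0, 0, 0, 0], [0, 0, 0, 0, 0, -1], [0, 0, 0, 0, -1, 0], [0, 0, 0, -1, 0, 0], [0, 0, -1, 0, 0, 0], [0,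 0, 0, 0, 0, -1], [0, 0, 0, 0, -1, 0], [0, 0, 0, -1, 0, 0], [0, 0, 0, 0, 0, -1], [0, 0, 0, 0, -1, 0], [0, 0, 0, 0, 0, -1], [0, 0, 0, 0, 0, 1], [0, 0, 0, 0, 1, 0], [0, 0, 0, 0, 0, 1], [0, 0, 0, 1, 0, 0], [0, 0, 0, 0, 1, 0], [0, 0, 0, 0, 0, 1], [0, 0, 1, 0, 0, 0], [0, 0, 0, 1, 0, 0], [0, 0, 0, 0, 1, 0], [0, 0, 0, 0, 0, 1], [0, 1, 0, 0, 0, 0], [0, 0, 0, 1, 0, 0], [0, 0, 0, 0, 1, 0], [0, 0, 0, 0, 0, 1], [0, 0, 0, 1, 0, 0], [0, 0, 0, 0, 1, 0], [0, 0, 0, 0, 0, 1], [0, 0, 0, 0, 1, 0], [0, 0, 0, 0, 0, 1], [0, 0, 0, 0, 0, 1], [1, 0, 0, 0, 0, 0], [0, 0, 1, 0, 0, 0], [0, 0, 0, 1, 0, 0], [0, 0, 0, 0, 1, 0], [0, 0, 0, 0, 0, 1], [0, 0, 0, 1, 0, 0], [0, 0, 0, 0, 1, 0], [0, 0, 0, 0, 0, 1], [0, 0, 0, 0, 1, 0], [0, 0, 0, 0, 0, 1], [0, 0, 0, 0, 0, 1], [0, 0, 0, 0, 1, 0], [0, 0, 0, 0, 0, 1], [0, 0, 0, 0, 0, 1], [0, 0, 0, 0, 0, 1], [0, 0, 0, 0, 0, 1]]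

set_option maxHeartbeats 0 in
set_option maxRecDepth 100000 in
theorem negE6 : negTab chevE6 := by
  decide +kernel

set_option maxHeartbeats 0 in
set_option maxRecDepth 100000 in
theorem bezOKE6 : ∀ r ∈ List.range 72, bezTab chevE6 bezE6 r := by
  decide +kernel

set_option maxHeartbeats 0 in
set_option maxRecDepth 100000 in
theorem lenE6 : chevE6.posRoots.length = 72 / 2 := by
  decide +kernel

set_option maxHeartbeats 0 in
set_option maxRecDepth 100000 in
theorem posE6_neg : posTabL chevE6 (List.range' 0 36) := by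
  decide +kernel

set_option maxHeartbeats 0 in
set_option maxRecDepth 100000 in
theorem posE6_0 : posTabL chevE6 (List.range' 36 12) := by
  decide +kernel

set_option maxHeartbeats 0 in
set_option maxRecDepth 100000 in
theorem posE6_1 : posTabL chevE6 (List.range' 48 12) := by
  decide +kernel

set_option maxHeartbeats 0 in
set_option maxRecDepth 100000 in
theorem posE6_2 : posTabL chevE6 (List.range' 60 12) := by
  decide +kernel

theorem posE6 (r : ℕ) (h2 : r < 72) : posTab chevE6 r := by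
  by_cases h36 : r < 36
  · exact posE6_neg r (List.mem_range'_1.mpr ⟨by omega, by omega⟩)
  by_cases h48 : r < 48
  · exact posE6_0 r (List.mem_range'_1.mpr ⟨by omega, by omega⟩)
  by_cases h60 : r < 60
  · exact posE6_1 r (List.mem_range'_1.mpr ⟨by omega, by omega⟩)
  exact posE6_2 r (List.mem_range'_1.mpr ⟨by omega, by omega⟩)

set_option maxHeartbeats 0 in
set_option maxRecDepth 100000 in
theorem triE6_neg : triTabL chevE6 (List.range' 0 36) := by
  decide +kernel

set_option maxHeartbeats 0 in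
set_option maxRecDepth 100000 in
theorem triE6_0 : triTabL chevE6 (List.range' 36 18) := by
  decide +kernel

set_option maxHeartbeats 0 in
set_option maxRecDepth 100000 in
theorem triE6_1 : triTabL chevE6 (List.range' 54 18) := by
  decide +kernel

theorem triE6 (r : ℕ) (h2 : r < 72) : triTab chevE6 r := by
  by_cases h36 : r < 36
  · exact triE6_neg r (List.mem_range'_1.mpr ⟨by omega, by omega⟩)
  by_cases h54 : r < 54
  · exact triE6_0 r (List.mem_range'_1.mpr ⟨by omega, by omega⟩)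
  exact triE6_1 r (List.mem_range'_1.mpr ⟨by omega, by omega⟩)

theorem utabsE6 : UTabs chevE6 bezE6 where
  pos := fun r hr => posE6 r hr
  tri := fun s hs => triE6 s hs
  neg := negE6
  bez := fun r hr => bezOKE6 r (List.mem_range.mpr hr)


end Cfsg.Agent.Lib.Helper6.ChevUnipData
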